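import Cfsg.Agent.Lib.ThreeTrans.FiCent.Frames

/-!
An identification of the first centraliser of the presented Fischer group with a subgroup of index at most two
of the centraliser of an involution: the subgroup belonging to each conjugate of the involution, and its
behaviour for commuting conjugates.
-/

set_option autoImplicit false
set_option linter.unusedSectionVars false

namespace CfsgLib.ThreeTrans.FiCent.Index

open Subgroup CfsgLib.Presented CfsgLib.Presented.Fi22Pts CfsgLib.ThreeTrans.FiCent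

variable {G : Type*} [Group G]

/-- An injection of the first centraliser into the centraliser of `d`, with normal image having trivial
centraliser there, matching the classes, and symmetric on commuting conjugates. -/
structure Link (d : G) (θ : ↥H0 →* G) : Prop where
  inj : Function.Injective θ
  base : θ aH = d
  cls : ∀ x : ↥H0, θ x ∈ conjugatesOf d ↔ (x : X) ∈ D0
  normal : ∀ g : G, Commute g d → ∀ x : ↥H0, ∃ y : ↥H0, g * θ x * g⁻¹ = θ y
  kill : ∀ g : G, Commute g d → (∀ x : ↥H0, Commute g (θ x)) → g = 1 ∨ g = d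
  sym : ∀ x : ↥H0, (x : X) ∈ D0 → x ≠ aH → ∀ g : G, g * d * g⁻¹ = θ x →
    ∀ y : ↥H0, Commute (y : X) (x : X) → ∃ y' : ↥H0, θ y = g * θ y' * g⁻¹

/-- The subgroup belonging to a conjugate of the involution, as a set. -/
def Nd (d : G) (θ : ↥H0 →* G) (f : G) : Set G :=
  {z | ∃ g : G, g * d * g⁻¹ = f ∧ ∃ y : ↥H0, z = g * θ y * g⁻¹}

variable {d : G} {θ : ↥H0 →* G}

theorem Link.comm_iff (L : Link d θ) {x y : ↥H0} : Commute (θ x) (θ y) ↔ Commute (x : X) (y : X) :=
  ⟨fun h => congrArg Subtype.val (L.inj (a₁ := x * y) (a₂ := y * x) (by rw [map_mul, map_mul]; exact h.eq)),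
    fun h => (show Commute x y from Subtype.ext h.eq).map θ⟩

theorem mem_Nd_range (x : ↥H0) : θ x ∈ Nd d θ d := ⟨1, by group, x, by group⟩

/-- Any element carrying the involution to the conjugate describes its subgroup. -/
theorem Link.Nd_rep (L : Link d θ) {f z g : G} (hg : g * d * g⁻¹ = f) (hz : z ∈ Nd d θ f) :
    ∃ y : ↥H0, z = g * θ y * g⁻¹ := by
  obtain ⟨k, hk, y, rfl⟩ := hz
  have hc : Commute (g⁻¹ * k) d := by
    refine mul_inv_eq_iff_eq_mul.1 ?_
    calc g⁻¹ * k * d * (g⁻¹ * k)⁻¹ = g⁻¹ * (k * d * k⁻¹) * g := by group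
      _ = g⁻¹ * (g * d * g⁻¹) * g := by rw [hk, hg]
      _ = d := by group
  obtain ⟨y', hy'⟩ := L.normal _ hc y
  exact ⟨y', by rw [← hy']; group⟩

theorem Link.mem_Nd_base (L : Link d θ) {z : G} : z ∈ Nd d θ d ↔ ∃ y, θ y = z :=
  ⟨fun h => by
    obtain ⟨y, rfl⟩ := L.Nd_rep (g := 1) (by group) h
    exact ⟨y, by group⟩, fun ⟨y, h⟩ => h ▸ mem_Nd_range y⟩

theorem Nd_conj {f z : G} (c : G) : c * z * c⁻¹ ∈ Nd d θ (c * f * c⁻¹) ↔ z ∈ Nd d θ f := by
  constructor
  · rintro ⟨g, hg, y, e⟩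
    refine ⟨c⁻¹ * g, ?_, y, ?_⟩
    · rw [show c⁻¹ * g * d * (c⁻¹ * g)⁻¹ = c⁻¹ * (g * d * g⁻¹) * c by group, hg]; group
    · rw [show c⁻¹ * g * θ y * (c⁻¹ * g)⁻¹ = c⁻¹ * (g * θ y * g⁻¹) * c by group, ← e]; group
  · rintro ⟨g, hg, y, rfl⟩
    exact ⟨c * g, by rw [← hg]; group, y, by group⟩

theorem Link.Nd_commute (L : Link d θ) {f z : G} (hz : z ∈ Nd d θ f) : Commute z f := by
  obtain ⟨g, rfl, y, rfl⟩ := hz
  have h : Commute (θ y) (θ aH) := L.comm_iff.2 (by
    rw [show ((aH : ↥H0) : X) = T 0 from T_zero.symm]; exact mem_H0_iff.1 y.2)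
  rw [L.base] at h
  simpa using h.map (MulAut.conj g).toMonoidHom

theorem self_mem_Nd (L : Link d θ) {f : G} (hf : f ∈ conjugatesOf d) : f ∈ Nd d θ f := by
  obtain ⟨g, hg⟩ := isConj_iff.1 hf
  exact ⟨g, hg, aH, by rw [L.base, hg]⟩

/-- Elements of the subgroup of `e` commuting with a conjugate `f` inside it lie in that of `f`. -/
theorem Link.sym_conj (L : Link d θ) {e f z : G} (he : e ∈ conjugatesOf d) (hf : f ∈ conjugatesOf d)
    (hfe : f ∈ Nd d θ e) (hz : z ∈ Nd d θ e) (hc : Commute z f) : z ∈ Nd d θ f := by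
  by_cases h : f = e
  · rwa [h]
  obtain ⟨g, hg⟩ := isConj_iff.1 he
  obtain ⟨x, rfl⟩ := L.Nd_rep hg hfe
  obtain ⟨y, rfl⟩ := L.Nd_rep hg hz
  have hxD : (x : X) ∈ D0 := (L.cls x).1 ((conjugatesOf_conj g).1 hf)
  have hxa : x ≠ aH := fun e' => h (by rw [e', L.base, hg])
  have hyx : Commute (y : X) (x : X) := L.comm_iff.1 (by
    have := hc.map (MulAut.conj g⁻¹).toMonoidHom
    simpa [mul_assoc] using this)
  obtain ⟨k, hk⟩ := isConj_iff.1 ((L.cls x).2 hxD)
  obtain ⟨y', hy'⟩ := L.sym x hxD hxa k hk y hyx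
  exact (Nd_conj g).2 ⟨k, hk, y', hy'⟩

end CfsgLib.ThreeTrans.FiCent.Index
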