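import Cfsg.Agent.Lib.ThreeTrans.FiCent.Index.Link

/-!
The identification of the first centraliser extends to the subgroup belonging to a commuting transposition,
respecting both classes.
-/

set_option autoImplicit false
set_option maxRecDepth 100000

namespace CfsgLib.ThreeTrans.FiCent.Index

open Subgroup CfsgLib.Presented CfsgLib.Presented.Fi22Pts CfsgLib.ThreeTrans.FiCent
open CfsgLib.ThreeTrans.Inst.FiTwentyTwo (P maskA)
open Fi22UCert (rep)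

variable {G : Type*} [Group G]

/-- An identification on the centraliser of another transposition, agreeing with the first. -/
structure Frame (d : G) (θ : ↥H0 →* G) (q : ℕ) (η : ↥(Cp q) →* G) : Prop where
  inj : Function.Injective η
  cent : ∀ h : T q ∈ Cp q, (η.range : Set G) = Nd d θ (η ⟨T q, h⟩)
  cls : ∀ x : ↥(Cp q), η x ∈ conjugatesOf d ↔ (x : X) ∈ D0
  agree : ∀ (x : X) (h₁ : x ∈ H0) (h₂ : x ∈ Cp q), η ⟨x, h₂⟩ = θ ⟨x, h₁⟩

variable {d : G} {θ : ↥H0 →* G}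

/-- The frame at the seventh transposition. -/
theorem exists_frame (L : Link d θ) : ∃ η : ↥(Cp 154) →* G, Frame d θ 154 η := by
  classical
  have := finite_X
  set u : G := θ ⟨T 154, T154_mem_H0⟩ with hu
  obtain ⟨g₀, hg₀⟩ := isConj_iff.1 ((L.cls ⟨T 154, T154_mem_H0⟩).2 (T_mem 154))
  replace hg₀ : g₀ * d * g₀⁻¹ = u := hg₀
  -- the preimage of the first transposition
  have hne154 : (⟨T 154, T154_mem_H0⟩ : ↥H0) ≠ aH := fun e =>
    absurd (T_inj (by decide) (by decide) ((congrArg Subtype.val e).trans T_zero.symm)) (by decide)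
  obtain ⟨y, hy⟩ := L.sym ⟨T 154, T154_mem_H0⟩ (T_mem 154) hne154 g₀ hg₀ aH (by
    rw [show ((aH : ↥H0) : X) = T 0 from T_zero.symm]; exact (mem_H0_iff.1 T154_mem_H0).symm)
  have hyv : θ y = g₀⁻¹ * d * g₀ := by rw [← L.base, hy]; group
  have hyD : (y : X) ∈ D0 := (L.cls y).1 (by
    rw [hyv, show g₀⁻¹ * d * g₀ = g₀⁻¹ * d * g₀⁻¹⁻¹ by rw [inv_inv], conjugatesOf_conj]
    exact mem_conjugatesOf_self)
  have h154 : T 154 ≠ T 0 := fun e => absurd (T_inj (by decide) (by decide) e) (by decide)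
  have hya : (y : X) ≠ T 0 := fun e => h154 <| by
    have e' : y = aH := Subtype.ext (e.trans T_zero)
    rw [e', L.base] at hyv
    have hcd : g₀ * d * g₀⁻¹ = d := by
      conv_lhs => rw [hyv]
      group
    have : θ ⟨T 154, T154_mem_H0⟩ = θ aH := by rw [L.base]; exact hg₀.symm.trans hcd
    rw [T_zero]
    exact congrArg Subtype.val (L.inj this)
  obtain ⟨h, h1, h2⟩ := exists_swap hyD hya (mem_H0_iff.1 y.2)
  have hmem : ∀ x : ↥(Cp 154), h⁻¹ * (x : X) * h ∈ H0 := fun x => mem_H0_iff.2 <| by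
    have := (mem_Cp_iff.1 x.2).map (MulAut.conj h⁻¹).toMonoidHom
    simp only [MulEquiv.coe_toMonoidHom, MulAut.conj_apply, inv_inv] at this
    rwa [show h⁻¹ * T 154 * h = T 0 by rw [← h1]; group] at this
  let η₀ : ↥(Cp 154) →* G := MonoidHom.mk' (fun x => g₀ * θ ⟨_, hmem x⟩ * g₀⁻¹) fun x x' => by
    have e : (⟨_, hmem (x * x')⟩ : ↥H0) = ⟨_, hmem x⟩ * ⟨_, hmem x'⟩ := Subtype.ext (by
      show h⁻¹ * ((x : X) * (x' : X)) * h = h⁻¹ * x * h * (h⁻¹ * x' * h)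
      group)
    rw [e, map_mul]
    group
  have hinj₀ : Function.Injective η₀ := fun x x' e => by
    have e1 : θ ⟨_, hmem x⟩ = θ ⟨_, hmem x'⟩ := mul_left_cancel (mul_right_cancel e)
    have e2 : h⁻¹ * (x : X) * h = h⁻¹ * (x' : X) * h := congrArg Subtype.val (L.inj e1)
    exact Subtype.ext (mul_left_cancel (mul_right_cancel e2))
  have hg154 : T 154 ∈ Cp 154 := mem_Cp_iff.2 (Commute.refl _)
  have h0mem : T 0 ∈ Cp 154 := mem_Cp_iff.2 (mem_H0_iff.1 T154_mem_H0).symm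
  have e154 : η₀ ⟨T 154, hg154⟩ = u := by
    show g₀ * (θ ⟨_, hmem ⟨T 154, hg154⟩⟩ : G) * g₀⁻¹ = u
    have e : (⟨_, hmem ⟨T 154, hg154⟩⟩ : ↥H0) = aH := Subtype.ext (by
      show h⁻¹ * T 154 * h = Inst.FiTwentyTwo.a
      rw [← h1, ← T_zero]; group)
    rw [e, L.base]
    exact hg₀
  have e0 : η₀ ⟨T 0, h0mem⟩ = d := by
    show g₀ * (θ ⟨_, hmem ⟨T 0, h0mem⟩⟩ : G) * g₀⁻¹ = d
    have e : (⟨_, hmem ⟨T 0, h0mem⟩⟩ : ↥H0) = y := Subtype.ext (by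
      show h⁻¹ * T 0 * h = y
      rw [← h2]; group)
    rw [e, hyv]
    group
  have hrange₀ : (η₀.range : Set G) = Nd d θ u := by
    ext z
    constructor
    · rintro ⟨x, rfl⟩
      exact ⟨g₀, hg₀, _, rfl⟩
    · intro hz
      obtain ⟨w, rfl⟩ := L.Nd_rep hg₀ hz
      have hwC : h * (w : X) * h⁻¹ ∈ Cp 154 := mem_Cp_iff.2 <| by
        have := (mem_H0_iff.1 w.2).map (MulAut.conj h).toMonoidHom
        simp only [MulEquiv.coe_toMonoidHom, MulAut.conj_apply] at this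
        rwa [h1] at this
      refine ⟨⟨_, hwC⟩, ?_⟩
      show g₀ * θ ⟨_, hmem ⟨_, hwC⟩⟩ * g₀⁻¹ = _
      rw [show (⟨_, hmem ⟨_, hwC⟩⟩ : ↥H0) = w from Subtype.ext (by
        show h⁻¹ * (h * (w : X) * h⁻¹) * h = w; group)]
  have hcls₀ : ∀ x : ↥(Cp 154), η₀ x ∈ conjugatesOf d ↔ (x : X) ∈ D0 := fun x => by
    show g₀ * (θ ⟨_, hmem x⟩ : G) * g₀⁻¹ ∈ _ ↔ _
    rw [conjugatesOf_conj, L.cls]
    show h⁻¹ * (x : X) * h ∈ D0 ↔ _
    rw [show h⁻¹ * (x : X) * h = h⁻¹ * (x : X) * h⁻¹⁻¹ by rw [inv_inv], D0_conj]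
  -- the difference on the intersection
  have hpre : ∀ x : ↥(Cpair 154), ∃ x' : ↥(Cpair 154), η₀ ⟨x', x'.2.2⟩ = θ ⟨x, x.2.1⟩ := by
    intro x
    have hz : θ ⟨x, x.2.1⟩ ∈ Nd d θ u := by
      obtain ⟨x', e⟩ := L.sym ⟨T 154, T154_mem_H0⟩ (T_mem 154) hne154 g₀ hg₀ ⟨x, x.2.1⟩ (mem_Cp_iff.1 x.2.2)
      exact ⟨g₀, hg₀, x', e⟩
    rw [← hrange₀] at hz
    obtain ⟨x', hx'⟩ := hz
    refine ⟨⟨x', mem_H0_iff.2 ?_, x'.2⟩, hx'⟩
    have hcd : Commute (η₀ x') (η₀ ⟨T 0, h0mem⟩) := by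
      rw [hx', e0, ← L.base, L.comm_iff, show ((aH : ↥H0) : X) = T 0 from T_zero.symm]
      exact mem_H0_iff.1 x.2.1
    exact congrArg Subtype.val (hinj₀ (a₁ := x' * ⟨T 0, h0mem⟩) (a₂ := ⟨T 0, h0mem⟩ * x')
      (by rw [map_mul, map_mul]; exact hcd.eq))
  choose af haf using hpre
  let α₀ : ↥(Cpair 154) →* ↥(Cpair 154) := MonoidHom.mk' af fun x x' => by
    have e : η₀ ⟨af (x * x'), (af (x * x')).2.2⟩ =
        η₀ (⟨af x, (af x).2.2⟩ * ⟨af x', (af x').2.2⟩) := by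
      rw [map_mul, haf, haf, haf, ← map_mul]
      rfl
    have := congrArg Subtype.val (hinj₀ e)
    exact Subtype.ext this
  have hαinj : Function.Injective α₀ := fun x x' e => by
    have e' : af x = af x' := e
    have h3 := haf x
    rw [e', haf x'] at h3
    exact Subtype.ext (congrArg Subtype.val (L.inj h3)).symm
  let α : ↥(Cpair 154) ≃* ↥(Cpair 154) :=
    MulEquiv.ofBijective α₀ ⟨hαinj, Finite.injective_iff_surjective.1 hαinj⟩
  have hα : ∀ x : ↥(Cpair 154), η₀ ⟨α x, (α x).2.2⟩ = θ ⟨x, x.2.1⟩ := haf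
  obtain ⟨γ, hγ0, hγg, hγ⟩ := rigid α
    (fun hh => congrArg Subtype.val (hinj₀ (a₁ := ⟨(α ⟨T 0, hh⟩ : X), (α ⟨T 0, hh⟩).2.2⟩)
      (a₂ := ⟨T 0, h0mem⟩) (by
        rw [hα, e0]
        show θ ⟨T 0, hh.1⟩ = d
        rw [show (⟨T 0, hh.1⟩ : ↥H0) = aH from Subtype.ext T_zero]
        exact L.base)))
    (fun hh => congrArg Subtype.val (hinj₀ (a₁ := ⟨(α ⟨T 154, hh⟩ : X), (α ⟨T 154, hh⟩).2.2⟩)
      (a₂ := ⟨T 154, hg154⟩) (by rw [hα, e154])))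
    (fun x => by
      rw [← hcls₀ ⟨(α x : X), (α x).2.2⟩, hα, L.cls])
  have hγC : ∀ x : ↥(Cp 154), γ x ∈ Cp 154 := fun x => mem_Cp_iff.2 <| by
    have := (mem_Cp_iff.1 x.2).map γ
    rwa [hγg] at this
  let η : ↥(Cp 154) →* G := MonoidHom.mk' (fun x => η₀ ⟨γ x, hγC x⟩) fun x x' => by
    rw [← map_mul]
    exact congrArg η₀ (Subtype.ext (map_mul γ (x : X) (x' : X)))
  refine ⟨η, ⟨fun x x' e => Subtype.ext (γ.injective (congrArg Subtype.val (hinj₀ e))), ?_, ?_, ?_⟩⟩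
  · intro hh
    have e : η ⟨T 154, hh⟩ = u := by
      show η₀ ⟨γ (T 154), hγC ⟨_, hh⟩⟩ = u
      rw [← e154]
      exact congrArg η₀ (Subtype.ext hγg)
    rw [e, ← hrange₀]
    refine SetLike.coe_set_eq.2 ?_
    ext z
    constructor
    · rintro ⟨x, rfl⟩
      exact ⟨_, rfl⟩
    · rintro ⟨x, rfl⟩
      have hx : γ⁻¹ (x : X) ∈ Cp 154 := mem_Cp_iff.2 <| by
        have := (mem_Cp_iff.1 x.2).map γ⁻¹
        rwa [show γ⁻¹ (T 154) = T 154 by rw [MulAut.inv_apply, MulEquiv.symm_apply_eq, hγg]] at this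
      refine ⟨⟨_, hx⟩, ?_⟩
      show η₀ ⟨γ (γ⁻¹ (x : X)), hγC ⟨_, hx⟩⟩ = η₀ x
      exact congrArg η₀ (Subtype.ext (γ.apply_symm_apply (x : X)))
  · intro x
    show η₀ ⟨γ x, hγC x⟩ ∈ _ ↔ _
    rw [hcls₀]
    exact mem_D0_aut γ
  · intro x h₁ h₂
    rw [← hα ⟨x, h₁, h₂⟩]
    exact congrArg η₀ (Subtype.ext (hγ ⟨x, h₁, h₂⟩).symm)

end CfsgLib.ThreeTrans.FiCent.Index
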